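import Groth.Agent.EtLimit.Nbhd
import Mathlib.AlgebraicGeometry.AffineScheme

/-!
# Affine schemes étale over a strict localisation are limits of affine schemes étale over the base
-/

set_option autoImplicit false
set_option backward.isDefEq.respectTransparency false

universe u

open CategoryTheory CategoryTheory.Limits AlgebraicGeometry Opposite

noncomputable section

namespace Groth.Agent.EtDepthLoc

open IndAlg in
theorem nonempty_etPres_of_fac {X : Scheme.{u}} {V : X.Opens} (hV : IsAffineOpen V) (E : Type u)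
    [CommRing E] [Algebra Γ(X, V) E] (h : Fac (Etale.Et Γ(X, V)) E) :
    Nonempty (EtLimit.EtPres (Spec.map (CommRingCat.ofHom (algebraMap Γ(X, V) E)) ≫ hV.fromSpec)) := by
  obtain ⟨J, _, _, D, c, hc, hQ, ⟨e⟩⟩ := IndAlg.Etale.isInd_of_fac h
  haveI : IsConnected J := IsFiltered.isConnected J
  let K : Cocone (D ⋙ Under.forget _) :=
    ((Under.forget _).mapCocone c).extend (e.hom.right)
  have hK : IsColimit K :=
    IsColimit.extendIso _ (isColimitOfPreserves (Under.forget _) hc)
  have hw : ∀ j, (D.obj j).hom ≫ (K.ι.app j) = CommRingCat.ofHom (algebraMap Γ(X, V) E) := by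
    intro j
    exact Under.w (c.ι.app j ≫ e.hom)
  refine ⟨{
    I := Jᵒᵖ
    D := (D ⋙ Under.forget _).op ⋙ Scheme.Spec
    π := (Scheme.Spec.mapCone K.op).π
    isLimit := isLimitOfPreserves Scheme.Spec hK.op
    p := fun i => Spec.map (D.obj i.unop).hom ≫ hV.fromSpec
    isAffine := fun i => inferInstanceAs (IsAffine (Spec _))
    etale := fun i => ?_
    w := fun i j a => ?_
    fac := fun i => ?_ }⟩
  · haveI : Etale (Spec.map (D.obj i.unop).hom) := by
      refine (HasRingHomProperty.Spec_iff (P := @Etale)).2 ?_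
      let := (D.obj i.unop).hom.hom.toAlgebra
      exact RingHom.etale_algebraMap.2 (hQ i.unop)
    exact MorphismProperty.comp_mem _ _ _ this inferInstance
  · show Spec.map _ ≫ Spec.map _ ≫ _ = _
    rw [← Spec.map_comp_assoc]
    exact congrArg (fun k => Spec.map k ≫ hV.fromSpec) (Under.w (D.map a.unop))
  · show Spec.map (K.ι.app i.unop) ≫ Spec.map _ ≫ _ = _
    rw [← Spec.map_comp_assoc, hw]

/-- Presentations along an isomorphism. -/
def etPresPrecomp {X T T' : Scheme.{u}} {σ : T ⟶ X} (P : EtLimit.EtPres σ) (e : T' ≅ T) :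
    EtLimit.EtPres (e.hom ≫ σ) :=
  letI := P.cat
  letI := P.cofiltered
  { I := P.I
    D := P.D
    π := ((Cone.mk T P.π).extend e.hom).π
    isLimit := IsLimit.extendIso (s := Cone.mk T P.π) e.hom P.isLimit
    p := P.p
    isAffine := P.isAffine
    etale := P.etale
    w := P.w
    fac := fun i => by
      show (e.hom ≫ P.π.app i) ≫ P.p i = e.hom ≫ σ
      rw [Category.assoc, P.fac] }

open IndAlg in
/-- An affine scheme étale over a strict localisation is a limit of affine schemes étale over the base. -/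
theorem nonempty_etPres (X : Scheme.{u}) (x : X) (R : Type u) [CommRing R] [IsLocalRing R]
    [Algebra (X.presheaf.stalk x) R] [IsLocalHom (algebraMap (X.presheaf.stalk x) R)]
    [Hensel.IsStrictHenselization (X.presheaf.stalk x) R]
    {A : Scheme.{u}} [IsAffine A] (a : A ⟶ Spec (CommRingCat.of R)) [Etale a] :
    Nonempty (EtLimit.EtPres (a ≫ Hens2.specOf X x R)) := by
  obtain ⟨V, hV, hxV⟩ : ∃ V : X.Opens, IsAffineOpen V ∧ x ∈ V := by
    obtain ⟨_, ⟨V, hV, rfl⟩, hxV, -⟩ :=
      X.isBasis_affineOpens.exists_subset_of_mem_open (Set.mem_univ x) isOpen_univ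
    exact ⟨V, hV, hxV⟩
  let := TopCat.Presheaf.algebra_section_stalk X.presheaf ⟨x, hxV⟩
  haveI := hV.isLocalization_stalk ⟨x, hxV⟩
  letI algR : Algebra Γ(X, V) R :=
    ((algebraMap (X.presheaf.stalk x) R).comp (algebraMap Γ(X, V) (X.presheaf.stalk x))).toAlgebra
  haveI : IsScalarTower Γ(X, V) (X.presheaf.stalk x) R := .of_algebraMap_eq fun _ => rfl
  have hR := EtLimit.fac_et_strictHenselization (A := Γ(X, V)) (L := X.presheaf.stalk x) (R := R)
    (hV.primeIdealOf ⟨x, hxV⟩).asIdeal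
  let φ : CommRingCat.of R ⟶ Γ(A, ⊤) := Spec.preimage (A.isoSpec.inv ≫ a)
  have hφ : Spec.map φ = A.isoSpec.inv ≫ a := Spec.map_preimage _
  haveI : Etale (Spec.map φ) := by rw [hφ]; infer_instance
  letI : Algebra R Γ(A, ⊤) := φ.hom.toAlgebra
  haveI : Algebra.Etale R Γ(A, ⊤) :=
    RingHom.etale_algebraMap.1 ((HasRingHomProperty.Spec_iff (P := @Etale)).1 ‹Etale (Spec.map φ)›)
  letI : Algebra Γ(X, V) Γ(A, ⊤) := ((algebraMap R Γ(A, ⊤)).comp (algebraMap Γ(X, V) R)).toAlgebra
  haveI : IsScalarTower Γ(X, V) R Γ(A, ⊤) := .of_algebraMap_eq fun _ => rfl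
  obtain ⟨P⟩ := nonempty_etPres_of_fac hV Γ(A, ⊤) (Etale.fac_etale_top hR)
  have e : a ≫ Hens2.specOf X x R =
      A.isoSpec.hom ≫ Spec.map (CommRingCat.ofHom (algebraMap Γ(X, V) Γ(A, ⊤))) ≫ hV.fromSpec := by
    have h1 : CommRingCat.ofHom (algebraMap Γ(X, V) Γ(A, ⊤)) =
        CommRingCat.ofHom (algebraMap Γ(X, V) (X.presheaf.stalk x)) ≫
          CommRingCat.ofHom (algebraMap (X.presheaf.stalk x) R) ≫ φ := rfl
    rw [h1, Spec.map_comp, Spec.map_comp, hφ]
    simp only [Category.assoc, Iso.hom_inv_id_assoc]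
    show a ≫ Spec.map _ ≫ X.fromSpecStalk x = _
    rw [← IsAffineOpen.fromSpecStalk_eq_fromSpecStalk hV hxV, IsAffineOpen.fromSpecStalk]
    rfl
  rw [e]
  exact ⟨etPresPrecomp P A.isoSpec⟩

end Groth.Agent.EtDepthLoc
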