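import Groth.Agent.EtDepthLoc.Base
import Groth.Agent.EtDepthLoc.Pres
import Groth.Agent.EtaleSite.PushStalk
import Groth.Agent.EtaleSite.EtaleStalkHens
import Groth.Agent.RegDivMu.Lift
import Groth.Agent.Hens.Unique

/-!
# Depth along a closed set is depth at its points
-/

set_option autoImplicit false
set_option backward.isDefEq.respectTransparency false

universe u

open CategoryTheory CategoryTheory.Limits AlgebraicGeometry Opposite CategoryTheory.Abelian

noncomputable section

namespace Groth.Agent.EtDepthLoc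

open EtLimit EtLimit.FHom EtaleSite

variable {X : Scheme.{u}}

/-- Points near which a section is non-zero. -/
def badSet {F : EtCoh.Ab X} {V : X.Etale} (s : F.obj.obj (op V)) : Set V.left :=
  {v | ∀ (V' : X.Etale) (e : V' ⟶ V) (v' : V'.left), e.left v' = v → F.obj.map e.op s ≠ 0}

theorem isClosed_badSet {F : EtCoh.Ab X} {V : X.Etale} (s : F.obj.obj (op V)) :
    IsClosed (badSet s) := by
  rw [← isOpen_compl_iff]
  have : (badSet s)ᶜ = ⋃ (V' : X.Etale) (e : V' ⟶ V) (_ : F.obj.map e.op s = 0), Set.range e.left := by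
    ext v
    simp only [badSet, Set.mem_compl_iff, Set.mem_setOf_eq, Set.mem_iUnion, Set.mem_range, not_forall,
      not_not]
    constructor
    · rintro ⟨V', e, v', hv, h⟩; exact ⟨V', e, h, v', hv⟩
    · rintro ⟨V', e, h, v', hv⟩; exact ⟨V', e, v', hv, h⟩
  rw [this]
  refine isOpen_iUnion fun V' => isOpen_iUnion fun e => isOpen_iUnion fun _ => ?_
  haveI : Etale V'.hom := V'.prop
  haveI : Etale V.hom := V.prop
  haveI : Etale (e.left ≫ V.hom) :=
    MorphismProperty.Over.w e ▸ (inferInstance : Etale V'.hom)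
  haveI : Etale e.left := Etale.of_comp e.left V.hom
  exact e.left.isOpenMap.isOpen_range

theorem eq_zero_of_badSet_eq_empty {F : EtCoh.Ab X} {V : X.Etale} (s : F.obj.obj (op V))
    (h : badSet s = ∅) : s = 0 := by
  have : ∀ v : V.left, ∃ (V' : X.Etale) (e : V' ⟶ V) (v' : V'.left),
      e.left v' = v ∧ F.obj.map e.op s = 0 := fun v => by
    by_contra hc
    exact Set.notMem_empty v (h ▸ fun V' e v' hv hs => hc ⟨V', e, v', hv, hs⟩)
  choose V' e v' hv hs using this
  exact EtColim.Sections.ext_of_cover F (fun v => e v) (fun v => ⟨v, v' v, hv v⟩) s 0 fun v => by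
    rw [hs, map_zero]

/-- The point of `V` under a geometric point. -/
def img {Ω : Type u} [Field Ω] [IsSepClosed Ω] {ξ : Spec (CommRingCat.of Ω) ⟶ X} {V : X.Etale}
    (φ : (Scheme.pointSmallEtale ξ).fiber.obj V) : V.left :=
  (show Spec (CommRingCat.of Ω) ⟶ V.left from φ.left) default

theorem img_eq {Ω : Type u} [Field Ω] [IsSepClosed Ω] {ξ : Spec (CommRingCat.of Ω) ⟶ X} {V : X.Etale}
    (φ : (Scheme.pointSmallEtale ξ).fiber.obj V) (a : Spec (CommRingCat.of Ω)) :
    (show Spec (CommRingCat.of Ω) ⟶ V.left from φ.left) a = img φ :=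
  congrArg (fun b => (show Spec (CommRingCat.of Ω) ⟶ V.left from φ.left) b) (Subsingleton.elim _ _)

theorem germ_eq_zero_iff {F : EtCoh.Ab X} {V : X.Etale} (s : F.obj.obj (op V)) {Ω : Type u} [Field Ω]
    [IsSepClosed Ω] (ξ : Spec (CommRingCat.of Ω) ⟶ X) (φ : (Scheme.pointSmallEtale ξ).fiber.obj V) :
    germ ξ F V φ s = 0 ↔ img φ ∉ badSet s := by
  constructor
  · intro h hbad
    obtain ⟨W, g, y, hy, hst⟩ := (germ_eq_iff ξ F V φ s 0).1 (h.trans (map_zero _).symm)
    exact hbad W g (img y) (congrArg img hy) (hst.trans (map_zero _))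
  · intro h
    simp only [badSet, Set.mem_setOf_eq, not_forall, not_not] at h
    obtain ⟨V', e, v', hv, hs⟩ := h
    haveI : Etale V'.hom := V'.prop
    haveI : Etale V.hom := V.prop
    haveI : Etale (e.left ≫ V.hom) :=
      MorphismProperty.Over.w e ▸ (inferInstance : Etale V'.hom)
    haveI : Etale e.left := Etale.of_comp e.left V.hom
    obtain ⟨l, h₁, -⟩ := Scheme.exists_fac_of_etale_of_isSepClosed e.left
      (show Spec (CommRingCat.of Ω) ⟶ V.left from φ.left) v' (hv.trans (img_eq φ _).symm)
    let ψ : (Scheme.pointSmallEtale ξ).fiber.obj V' :=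
      (Over.homMk l (by
        show l ≫ V'.hom = ξ
        rw [← MorphismProperty.Over.w e, ← Category.assoc, h₁]
        exact Over.w φ) : Over.mk ξ ⟶ (Scheme.Etale.forget X).obj V')
    have hψ : (Scheme.pointSmallEtale ξ).fiber.map e ψ = φ := Over.OverMorphism.ext h₁
    rw [← hψ, ← germ_res, hs, map_zero]

/-- A closed non-empty set has a point with no proper generisation in it. -/
theorem exists_maximal {Y : Scheme.{u}} {Z : Set Y} (hZ : IsClosed Z) (hne : Z.Nonempty) :
    ∃ v ∈ Z, ∀ v' ∈ Z, v' ⤳ v → v' = v := by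
  obtain ⟨x₀, hx₀⟩ := hne
  haveI : QuasiSober Z := hZ.isClosedEmbedding_subtypeVal.quasiSober
  let C := irreducibleComponent (⟨x₀, hx₀⟩ : Z)
  have hC : IsIrreducible C := isIrreducible_irreducibleComponent
  let g := hC.genericPoint
  have hg : IsGenericPoint g C := by
    have := hC.isGenericPoint_genericPoint_closure
    rwa [isClosed_irreducibleComponent.closure_eq] at this
  refine ⟨g.1, g.2, fun v' hv' h => ?_⟩
  let w : Z := ⟨v', hv'⟩
  have hwg : w ⤳ g := subtype_specializes_iff w g |>.2 h
  have hsub : C ⊆ closure {w} := by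
    rw [← hg.def]
    exact closure_minimal (Set.singleton_subset_iff.2 hwg.mem_closure) isClosed_closure
  have heq : closure {w} = C :=
    (irreducibleComponent_property _).2.2 _ (isIrreducible_singleton.closure).isPreirreducible hsub
  exact congrArg Subtype.val (IsGenericPoint.eq (show IsGenericPoint w C from heq) hg)

section Hens

variable (x : X) (R : Type u) [CommRing R] [IsLocalRing R] [Algebra (X.presheaf.stalk x) R]
  [IsLocalHom (algebraMap (X.presheaf.stalk x) R)] [Hensel.IsStrictHenselization (X.presheaf.stalk x) R]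

theorem specOf_closedPoint : Hens2.specOf X x R (IsLocalRing.closedPoint R) = x := by
  rw [Scheme.Hom.comp_apply]
  exact (congrArg (X.fromSpecStalk x) (IsLocalRing.comap_closedPoint (algebraMap (X.presheaf.stalk x) R))).trans
    X.fromSpecStalk_closedPoint

theorem eq_closedPoint (p : PrimeSpectrum R) (hp : Hens2.specOf X x R p = x) :
    p = IsLocalRing.closedPoint R := by
  have h1 : X.fromSpecStalk x (Spec.map (CommRingCat.ofHom (algebraMap (X.presheaf.stalk x) R)) p) =
      X.fromSpecStalk x (IsLocalRing.closedPoint (X.presheaf.stalk x)) :=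
    hp.trans X.fromSpecStalk_closedPoint.symm
  have h3 : p.asIdeal.comap (algebraMap (X.presheaf.stalk x) R) =
      IsLocalRing.maximalIdeal (X.presheaf.stalk x) :=
    congrArg PrimeSpectrum.asIdeal ((X.fromSpecStalk x).isEmbedding.injective h1)
  apply PrimeSpectrum.ext
  refine ((IsLocalRing.maximalIdeal.isMaximal R).eq_of_le p.isPrime.ne_top ?_).symm
  rw [← Hens.map_maximalIdeal_of_isStrictHenselization (R := X.presheaf.stalk x) (S := R), ← h3]
  exact Ideal.map_comap_le

theorem range_puncturedSpec :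
    Set.range (FEt.puncturedSpec R).ι.base = ({IsLocalRing.closedPoint R}ᶜ : Set (PrimeSpectrum R)) :=
  (FEt.puncturedSpec R).range_ι

end Hens

section Mono

variable {U : Scheme.{u}} (j : U ⟶ X) [IsOpenImmersion j] [EtCoh.BCCont j]

/-- A maximal bad point over the closed set contradicts depth at its image. -/
theorem false_of_maximal (F : EtCoh.Ab X) (V : X.Etale) (s : F.obj.obj (op V)) (v : V.left)
    (hv : v ∈ badSet s) (hmax : ∀ v' ∈ badSet s, v' ⤳ v → v' = v) (x : X) (hvx : V.hom v = x)
    (R : Type u) [CommRing R] [IsLocalRing R] [Algebra (X.presheaf.stalk x) R]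
    [IsLocalHom (algebraMap (X.presheaf.stalk x) R)] [Hensel.IsStrictHenselization (X.presheaf.stalk x) R]
    (hmono : Mono (EtDual.unitApp (FEt.puncturedSpec R).ι ((EtCoh.pull (Hens2.specOf X x R)).obj F))) :
    False := by
  haveI : Etale V.hom := V.prop
  let σ := Hens2.specOf X x R
  haveI : HenselianLocalRing R :=
    Hensel.IsStrictHenselization.henselian (R := X.presheaf.stalk x) (S := R)
  haveI : IsSepClosed (IsLocalRing.ResidueField R) :=
    (Hensel.IsStrictHenselization.isSepClosure (R := X.presheaf.stalk x) (S := R)).sep_closed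
  let c : Spec (CommRingCat.of (IsLocalRing.ResidueField R)) ⟶ Spec (CommRingCat.of R) :=
    EtaleSite.closedPt R
  have hc : ∀ a, c a = IsLocalRing.closedPoint R := fun a => IsLocalRing.PrimeSpectrum.comap_residue _ a
  have hσc : σ (IsLocalRing.closedPoint R) = x := specOf_closedPoint x R
  -- lift `σ` to `V` through `v`
  obtain ⟨φ₀, hφ₀⟩ := exists_fiber_point (c ≫ σ) V v (by
    rw [Scheme.Hom.comp_apply, hc]; exact hvx.trans hσc.symm)
  obtain ⟨sec, hsec⟩ := exists_from_top R ((EtCoh.bc σ).obj V) (fiberBcEquiv σ c V φ₀)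
  let G := (EtCoh.pull σ).obj F
  let t' := ((EtCoh.pullPushAdj σ).unit.app F).hom.app (op V) s
  let t := G.obj.map sec.op t'
  let l : Spec (CommRingCat.of R) ⟶ V.left := sec.left ≫ pullback.fst V.hom σ
  have hl : ∀ p : Spec (CommRingCat.of R), V.hom (l p) = σ p := fun p => by
    have e1 : sec.left ≫ pullback.snd V.hom σ = 𝟙 _ := MorphismProperty.Over.w sec
    have e2 : l ≫ V.hom = σ := by
      show (sec.left ≫ pullback.fst V.hom σ) ≫ V.hom = σ
      rw [Category.assoc, pullback.condition, ← Category.assoc, e1, Category.id_comp]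
    exact congrArg (fun q => q p) e2
  -- germs of `t`
  have hgerm : ∀ (Ω : Type u) [Field Ω] [IsSepClosed Ω] (η : Spec (CommRingCat.of Ω) ⟶ Spec (CommRingCat.of R))
      (w : (Scheme.pointSmallEtale η).fiber.obj (EtCoh.top (Spec (CommRingCat.of R)))),
      germ η G (EtCoh.top (Spec (CommRingCat.of R))) w t = 0 ↔
        img ((fiberBcEquiv σ η V).symm ((Scheme.pointSmallEtale η).fiber.map sec w)) ∉ badSet s := by
    intro Ω _ _ η w
    have h1 : germ η G (EtCoh.top (Spec (CommRingCat.of R))) w t =
        (stalkPullIso σ η).inv.app F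
          (germ (η ≫ σ) F V ((fiberBcEquiv σ η V).symm ((Scheme.pointSmallEtale η).fiber.map sec w)) s) := by
      rw [germ_stalkPullIso_inv, Equiv.apply_symm_apply]
      exact germ_res η G sec w t'
    have hinj : Function.Injective ((stalkPullIso σ η).inv.app F) :=
      (ConcreteCategory.bijective_of_isIso _).1
    rw [← germ_eq_zero_iff s (η ≫ σ), h1]
    exact ⟨fun h => hinj (h.trans (map_zero _).symm), fun h => by rw [h, map_zero]⟩
  -- `t` dies on the punctured spectrum
  have ht : (EtDual.unitApp (FEt.puncturedSpec R).ι G).hom.app (op (EtCoh.top _)) t = 0 := by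
    refine (EtSupp.EtaleBC.unitApp_eq_zero_iff _ G _ t).2 fun W f hW => ?_
    refine sect_ext _ _ fun Ω _ _ η w => ?_
    rw [germ_res, map_zero]
    let w' := (Scheme.pointSmallEtale η).fiber.map f w
    show germ η G _ w' t = 0
    rw [hgerm Ω η w']
    intro hbad
    let p := η default
    have hp : p ∈ Set.range (FEt.puncturedSpec R).ι.base := by
      let wl : Spec (CommRingCat.of Ω) ⟶ W.left := w.left
      have hwl : wl ≫ W.hom = η := Over.w w
      exact hW ⟨wl default, congrArg (fun q => q default) hwl⟩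
    rw [range_puncturedSpec] at hp
    -- the image point generalises `v`
    let pt := img ((fiberBcEquiv σ η V).symm ((Scheme.pointSmallEtale η).fiber.map sec w'))
    have hpt : pt = l p := by
      let wl : Spec (CommRingCat.of Ω) ⟶ Spec (CommRingCat.of R) := w'.left
      have hw' : wl = η := (Category.comp_id _).symm.trans (Over.w w')
      refine (img_eq _ (default : Spec (CommRingCat.of Ω))).symm.trans ?_
      show ((wl ≫ sec.left) ≫ pullback.fst V.hom σ) default = _
      rw [hw', Category.assoc]
      rfl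
    have hlc : l (IsLocalRing.closedPoint R) = v := by
      have e := congrArg (fun q => q.left) hsec
      have e' : (EtaleSite.closedPt R ≫ sec.left) ≫ pullback.fst V.hom σ = φ₀.left := by
        rw [show EtaleSite.closedPt R ≫ sec.left = pullback.lift φ₀.left c (Over.w φ₀) from e]
        exact pullback.lift_fst _ _ _
      show l.base (IsLocalRing.closedPoint R) = v
      have hφv : img φ₀ = v := (img_eq φ₀ _).symm.trans hφ₀
      refine Eq.trans ?_ hφv
      refine Eq.trans ?_ (img_eq φ₀ default)
      refine Eq.trans ?_ (congrArg (fun q : Spec (CommRingCat.of (IsLocalRing.ResidueField R)) ⟶ V.left => q default) e')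
      exact congrArg (fun q => l q) (hc default).symm
    have hspec : pt ⤳ v := by
      exact Eq.mpr (congrArg₂ (· ⤳ ·) hpt hlc.symm) ((IsLocalRing.specializes_closedPoint p).map l.continuous)
    have := hmax pt hbad hspec
    refine hp (eq_closedPoint x R p ?_)
    exact (hl p).symm.trans ((congrArg V.hom (hpt.symm.trans this)).trans hvx)
  have ht0 : t = 0 := by
    have : Mono ((sheafToPresheaf (Spec (CommRingCat.of R)).smallEtaleTopology AddCommGrpCat.{u + 1}).map
        (EtDual.unitApp (FEt.puncturedSpec R).ι G)) := inferInstance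
    exact (AddCommGrpCat.mono_iff_injective _).1
      (inferInstanceAs (Mono (((sheafToPresheaf _ _).map (EtDual.unitApp (FEt.puncturedSpec R).ι G)).app
        (op (EtCoh.top (Spec (CommRingCat.of R))))))) (ht.trans (map_zero _).symm)
  have hfin := (hgerm _ c (topPoint R)).1 (by rw [ht0, map_zero])
  rw [hsec, Equiv.symm_apply_apply] at hfin
  have hφv : img φ₀ = v := (img_eq φ₀ _).symm.trans hφ₀
  exact hfin (hφv.symm ▸ hv)


theorem eq_zero_of_stalks (F : EtCoh.Ab X)
    (h : ∀ y : X, y ∉ Set.range j.base → EtDepth.DepthAtGE X F y 1) (V : X.Etale)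
    (s : F.obj.obj (op V)) (hs : (EtDual.unitApp j F).hom.app (op V) s = 0) : s = 0 := by
  by_contra hne
  obtain ⟨v, hv, hmax⟩ := exists_maximal (isClosed_badSet s)
    (Set.nonempty_iff_ne_empty.2 fun he => hne (eq_zero_of_badSet_eq_empty s he))
  haveI : Etale V.hom := V.prop
  -- `v` lies over the closed set
  have hy : V.hom v ∉ Set.range j.base := by
    intro hin
    let W : Scheme.{u} := V.left
    let O : W.Opens := V.hom ⁻¹ᵁ j.opensRange
    let V' : X.Etale := Scheme.Etale.mk (O.ι ≫ V.hom)
    let e : V' ⟶ V := MorphismProperty.Over.homMk O.ι rfl trivial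
    refine hv V' e ⟨v, hin⟩ rfl ?_
    exact (EtSupp.EtaleBC.unitApp_eq_zero_iff j F V s).1 hs V' e (by
      rintro _ ⟨p, rfl⟩
      exact p.2)
  obtain ⟨iloc, ialg, ihom, hsh⟩ := EtaleLocalRing.exists_isStrictHenselization (geomPointAt X (V.hom v))
  have key : ∀ (x : X) (R : Type u) [CommRing R] [IsLocalRing R] [Algebra (X.presheaf.stalk x) R]
      [IsLocalHom (algebraMap (X.presheaf.stalk x) R)]
      [Hensel.IsStrictHenselization (X.presheaf.stalk x) R], V.hom v = x → False :=
    fun x R _ _ _ _ _ hx => false_of_maximal F V s v hv hmax x hx R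
      ((EtDepthLib.isZero_locCoh_zero_iff _ _).1 (h x (hx ▸ hy) R 0 Nat.one_pos))
  exact @key _ _ _ iloc ialg ihom hsh (geomPointAt_apply X _ _).symm

theorem mono_unit_of_depthAt (F : EtCoh.Ab X)
    (h : ∀ y : X, y ∉ Set.range j.base → EtDepth.DepthAtGE X F y 1) :
    Mono (EtDual.unitApp j F) := by
  have : Mono ((sheafToPresheaf X.smallEtaleTopology AddCommGrpCat.{u + 1}).map (EtDual.unitApp j F)) := by
    have : ∀ W, Mono ((EtDual.unitApp j F).hom.app W) := by
      rintro ⟨W⟩
      rw [AddCommGrpCat.mono_iff_injective, injective_iff_map_eq_zero]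
      exact fun s hs => eq_zero_of_stalks j F h W s hs
    exact NatTrans.mono_of_mono_app (EtDual.unitApp j F).hom
  exact (sheafToPresheaf _ _).mono_of_mono_map this

variable [QuasiCompact j]

/-- Depth along `Y` gives depth at its points. -/
theorem depthAt_of_depthGE (F : EtCoh.Ab X) (n : ℕ) (h : EtDepth.DepthGE j F n) (y : X)
    (hy : y ∉ Set.range j.base) : EtDepth.DepthAtGE X F y n := by
  intro R _ _ _ _ _
  let σ := Hens2.specOf X y R
  let O : (Spec (CommRingCat.of R)).Opens := σ ⁻¹ᵁ j.opensRange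
  have hpre : Set.range O.ι.base = σ.base ⁻¹' Set.range j.base := O.range_ι
  refine EtSupp.depthGE_mono O.ι (FEt.puncturedSpec R).ι ?_ _ n
    (depthGE_pull σ j O.ι hpre (fun A _ a _ => nonempty_etPres X y R a) n F h)
  rw [hpre, range_puncturedSpec]
  intro p hp hpc
  refine hy ?_
  rw [← specOf_closedPoint y R]
  rwa [Set.mem_singleton_iff.1 hpc] at hp

/-- Depth at all points of `Y` gives depth along `Y`. -/
theorem depthGE_of_depthAt : ∀ (n : ℕ) (F : EtCoh.Ab X),
    (∀ y : X, y ∉ Set.range j.base → EtDepth.DepthAtGE X F y n) → EtDepth.DepthGE j F n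
  | 0, F, _ => fun p hp => absurd hp (by omega)
  | n + 1, F, h => by
    have hm := mono_unit_of_depthAt j F fun y hy R _ _ _ _ _ p hp => h y hy R p (by omega)
    obtain ⟨S, hS, rfl, hI, hiso⟩ := EtDepthLib.exists_embedding j F
    refine (EtDepthLib.depthGE_succ_iff j hS hm n).2 (depthGE_of_depthAt n _ fun y hy R _ _ _ _ _ => ?_)
    intro p hp
    let σ := Hens2.specOf X y R
    have hmid : IsZero ((EtDual.locCoh (FEt.puncturedSpec R).ι p).obj ((EtCoh.pull σ).obj S.X₂)) :=
      depthAt_of_depthGE j S.X₂ (p + 1) (fun q _ => EtDepthLib.isZero_locCoh_of_isIso j S.X₂ q) y hy R p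
        (by omega)
    haveI := EtDepthLib.preservesFiniteLimits_secSupp (FEt.puncturedSpec R).ι
    let Δ := RDerLES.derivedLES (EtDual.secSupp (FEt.puncturedSpec R).ι)
    exact (Δ.exact₃ (S.map (EtCoh.pull σ)) (hS.map_of_exact (EtCoh.pull σ)) p (p + 1) rfl).isZero_of_both_isZero
      hmid (h y hy R (p + 1) (by omega))

end Mono

end Groth.Agent.EtDepthLoc
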