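import Groth.Agent.EtHensExc.Key
import Groth.Agent.EtLimit.RpushStalk
import Groth.Agent.EtaleSite.OpenRestrict
import Groth.Agent.EtSupp.Mono

/-!
# Depth along a retrocompact open and pro-étale base change
-/

set_option autoImplicit false
set_option backward.isDefEq.respectTransparency false

universe u

open CategoryTheory CategoryTheory.Limits AlgebraicGeometry Opposite CategoryTheory.Abelian

noncomputable section

namespace Groth.Agent.EtDepthLoc

open EtLimit EtLimit.FHom EtaleSite EtHensExc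

attribute [local instance] EtPres.cat EtPres.cofiltered EtPres.isAffine EtPres.etale
  IsCofiltered.nonempty

section Trans

variable {X T B : Scheme.{u}} (σ : T ⟶ X) (c : B ⟶ T) [Etale c]

/-- `B` as an object of the étale site of `T`. -/
abbrev obj : T.Etale := over c (EtCoh.top B)

/-- Sections of `σ⁻¹F` over `B` as global sections of the inverse image to `B`. -/
def Ψ (F : EtCoh.Ab X) : ((EtCoh.pull σ).obj F).obj.obj (op (obj c)) ⟶
    ((EtCoh.pull (c ≫ σ)).obj F).obj.obj (op (EtCoh.top B)) :=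
  (unit c ((EtCoh.pull σ).obj F)).app (EtCoh.top B) (obj c) (𝟙 _) (over_w c _) ≫
    (κ c σ (rfl : c ≫ σ = c ≫ σ) F).hom.hom.app (op (EtCoh.top B))

theorem Ψ_injective (F : EtCoh.Ab X) (x y : ((EtCoh.pull σ).obj F).obj.obj (op (obj c)))
    (h : Ψ σ c F x = Ψ σ c F y) : x = y := by
  refine (bijective_unit_etale c ((EtCoh.pull σ).obj F) (EtCoh.top B)).1 (sub_eq_zero.1 ?_)
  refine iso_app_eq_zero (κ c σ (rfl : c ≫ σ = c ≫ σ) F) _ _ ?_
  rw [map_sub]
  exact sub_eq_zero.2 h

theorem Ψ_unit (F : EtCoh.Ab X) (U : X.Etale) (w : B ⟶ U.left)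
    (hw : w ≫ U.hom = (obj c).hom ≫ σ) (hw' : w ≫ U.hom = (EtCoh.top B).hom ≫ c ≫ σ)
    (x : F.obj.obj (op U)) :
    Ψ σ c F ((unit σ F).app (obj c) U w hw x) = (unit (c ≫ σ) F).app (EtCoh.top B) U w hw' x :=
  κ_unit_apply c σ rfl F (W := EtCoh.top B) (V := obj c) (U := U)
    (𝟙 _) (over_w c _) w hw w hw' (Category.id_comp _) x

theorem subsingleton_ext (J : EtCoh.Ab X) (q : ℕ)
    (h : Subsingleton (EtCoh.H B ((EtCoh.pull (c ≫ σ)).obj J) q)) :
    Subsingleton (Ext (Flasque.freeOn (obj c)) ((EtCoh.pull σ).obj J) q) := by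
  refine (Flasque.subsingleton_H_iff (obj c) _ _).1 ?_
  have hg : (obj c).hom ≫ σ = c ≫ σ := congrArg (· ≫ σ) (Category.id_comp c)
  exact (((EtCoh.HF B q).mapIso (κ (obj c).hom σ hg J)).addCommGroupIsoToAddEquiv.toEquiv).subsingleton_congr.2 h

end Trans

section Affine

variable {X U T A Uh : Scheme.{u}} (σ : T ⟶ X) (j : U ⟶ X) [IsOpenImmersion j] [QuasiCompact j]
  (a : A ⟶ T) [Etale a] (jh : Uh ⟶ A) [IsOpenImmersion jh]
  (hpre : Set.range jh.base = (a ≫ σ).base ⁻¹' Set.range j.base) (P : EtPres (a ≫ σ))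

/-- The punctured stages, as étale over `X`. -/
def pU (i : P.I) : (P.bcD j).obj i ⟶ X := P.bcp j i ≫ j

instance etale_pU (i : P.I) : Etale (pU σ j a P i) := by unfold pU; infer_instance

omit [QuasiCompact j] in
theorem pU_w (i k : P.I) (f : i ⟶ k) : (P.bcD j).map f ≫ pU σ j a P k = pU σ j a P i :=
  (Category.assoc _ _ _).symm.trans (congrArg (· ≫ j) (P.bcp_w j i k f))

/-- The punctured limit. -/
def ε : Uh ≅ pullback j (a ≫ σ) :=
  IsOpenImmersion.isoOfRangeEq jh (pullback.snd j (a ≫ σ)) (by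
    rw [hpre, IsOpenImmersion.range_pullbackSnd]; rfl)

omit [QuasiCompact j] [Etale a] in
theorem ε_snd : (ε σ j a jh hpre).hom ≫ pullback.snd j (a ≫ σ) = jh :=
  IsOpenImmersion.isoOfRangeEq_hom_fac _ _ _

/-- The punctured cone. -/
def cU : Cone (P.bcD j) := (P.bcCone j).extend (ε σ j a jh hpre).hom

/-- The punctured cone is limiting. -/
def isLimit_cU : IsLimit (cU σ j a jh hpre P) :=
  IsLimit.extendIso _ (P.isLimitBcCone j)

omit [QuasiCompact j] in
theorem cU_fac (i : P.I) : (cU σ j a jh hpre P).π.app i ≫ pU σ j a P i = (jh ≫ a) ≫ σ := by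
  show ((ε σ j a jh hpre).hom ≫ P.bcπ j i) ≫ P.bcp j i ≫ j = _
  rw [Category.assoc, ← Category.assoc (P.bcπ j i), P.bcπ_bcp, pullback.condition,
    ← Category.assoc, ε_snd, Category.assoc]

/-- The punctured stage maps to the stage. -/
def toStage (i : P.I) : stageObj (pU σ j a P) i ⟶ stageObj P.p i :=
  MorphismProperty.Over.homMk (bcFst j (P.st i)) (by
    show bcFst j (P.st i) ≫ (P.st i).hom = 𝟙 _ ≫ P.bcp j i ≫ j
    rw [Category.id_comp]
    exact bcFst_w j (P.st i)) trivial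

/-- Restriction from `A` to `Uh`. -/
def restr : obj (jh ≫ a) ⟶ obj a :=
  MorphismProperty.Over.homMk jh (by
    show jh ≫ 𝟙 A ≫ a = 𝟙 Uh ≫ jh ≫ a
    rw [Category.id_comp, Category.id_comp]) trivial

omit [QuasiCompact j] in
theorem w_top (i : P.I) : P.π.app i ≫ (stageObj P.p i).hom = (obj a).hom ≫ σ := by
  show _ ≫ 𝟙 _ ≫ P.p i = (𝟙 A ≫ a) ≫ σ
  rw [Category.id_comp, Category.id_comp, P.fac]

omit [QuasiCompact j] in
theorem w_stage (i : P.I) : (cU σ j a jh hpre P).π.app i ≫ (stageObj (pU σ j a P) i).hom =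
    (obj (jh ≫ a)).hom ≫ σ := by
  show _ ≫ 𝟙 _ ≫ pU σ j a P i = (𝟙 _ ≫ jh ≫ a) ≫ σ
  rw [Category.id_comp, Category.id_comp, cU_fac]

omit [QuasiCompact j] in
theorem toStage_π (i : P.I) :
    (cU σ j a jh hpre P).π.app i ≫ (toStage σ j a P i).left = jh ≫ P.π.app i := by
  show ((ε σ j a jh hpre).hom ≫ P.bcπ j i) ≫ bcFst j (P.st i) = _
  rw [Category.assoc, P.bcπ_fst, ← Category.assoc, ε_snd]

variable (F : EtCoh.Ab X)

omit [QuasiCompact j] in
theorem restr_res (i : P.I) (t : F.obj.obj (op (stageObj P.p i))) :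
    ((EtCoh.pull σ).obj F).obj.map (restr a jh).op
        ((unit σ F).app (obj a) (stageObj P.p i) (P.π.app i) (w_top σ a P i) t) =
      (unit σ F).app (obj (jh ≫ a)) (stageObj (pU σ j a P) i) ((cU σ j a jh hpre P).π.app i)
        (w_stage σ j a jh hpre P i) (F.obj.map (toStage σ j a P i).op t) := by
  have hw : (jh ≫ P.π.app i) ≫ (stageObj P.p i).hom = (obj (jh ≫ a)).hom ≫ σ := by
    rw [← toStage_π σ j a jh hpre P i, Category.assoc, MorphismProperty.Over.w (toStage σ j a P i)]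
    exact w_stage σ j a jh hpre P i
  have h1 := (unit σ F).app_map_apply (W' := obj (jh ≫ a)) (W := obj a) (U := stageObj P.p i)
    (restr a jh) (P.π.app i) (w_top σ a P i) (jh ≫ P.π.app i) hw rfl t
  have h2 := (unit σ F).map_app_apply (W := obj (jh ≫ a)) (U := stageObj (pU σ j a P) i)
    (U' := stageObj P.p i) (toStage σ j a P i) ((cU σ j a jh hpre P).π.app i)
    (w_stage σ j a jh hpre P i) (jh ≫ P.π.app i) hw (toStage_π σ j a jh hpre P i) t
  exact h1.trans h2.symm

omit [QuasiCompact j] in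
theorem Ψ_top (i : P.I) (t : F.obj.obj (op (stageObj P.p i))) :
    Ψ σ a F ((unit σ F).app (obj a) (stageObj P.p i) (P.π.app i) (w_top σ a P i) t) =
      toLim (c := Cone.mk A P.π) P.p (a ≫ σ) P.fac F i t :=
  Ψ_unit σ a F (stageObj P.p i) (P.π.app i) _ _ t

omit [QuasiCompact j] in
theorem Ψ_stage (i : P.I) (t : F.obj.obj (op (stageObj (pU σ j a P) i))) :
    Ψ σ (jh ≫ a) F ((unit σ F).app (obj (jh ≫ a)) (stageObj (pU σ j a P) i)
        ((cU σ j a jh hpre P).π.app i) (w_stage σ j a jh hpre P i) t) =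
      toLim (c := cU σ j a jh hpre P) (pU σ j a P) ((jh ≫ a) ≫ σ) (cU_fac σ j a jh hpre P) F i t :=
  Ψ_unit σ (jh ≫ a) F (stageObj (pU σ j a P) i) ((cU σ j a jh hpre P).π.app i) _ _ t

include hpre P in
/-- Injectivity of restriction for sheaves without sections off `U`. -/
theorem eq_zero_of_restr [EtCoh.BCCont j] (hF : Mono (EtDual.unitApp j F))
    (s : ((EtCoh.pull σ).obj F).obj.obj (op (obj a)))
    (hs : ((EtCoh.pull σ).obj F).obj.map (restr a jh).op s = 0) : s = 0 := by
  obtain ⟨i, t, ht⟩ := toLim_surjective (c := Cone.mk A P.π) P.isLimit P.p P.w (a ≫ σ) P.fac F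
    (Ψ σ a F s)
  have ht' : (unit σ F).app (obj a) (stageObj P.p i) (P.π.app i) (w_top σ a P i) t = s :=
    Ψ_injective σ a F _ _ ((Ψ_top σ a P F i t).trans ht)
  rw [← ht', restr_res σ j a jh hpre P F i t] at hs
  have h' : toLim (c := cU σ j a jh hpre P) (pU σ j a P) ((jh ≫ a) ≫ σ) (cU_fac σ j a jh hpre P) F i
      (F.obj.map (toStage σ j a P i).op t) = 0 :=
    (Ψ_stage σ j a jh hpre P F i _).symm.trans ((congrArg (Ψ σ (jh ≫ a) F) hs).trans (map_zero _))
  obtain ⟨k, f, hk⟩ := toLim_eq_zero (c := cU σ j a jh hpre P) (isLimit_cU σ j a jh hpre P)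
    (pU σ j a P) (pU_w σ j a P) ((jh ≫ a) ≫ σ) (cU_fac σ j a jh hpre P) F _ h'
  have hk' : F.obj.map (toStage σ j a P k).op (F.obj.map (stageObjMap P.p P.w f).op t) = 0 := by
    rw [← ConcreteCategory.comp_apply, ← Functor.map_comp, ← op_comp] at hk ⊢
    refine Eq.trans ?_ hk
    refine congrArg (fun q => F.obj.map (Quiver.Hom.op q) t) (MorphismProperty.Over.Hom.ext ?_)
    exact (bc_map_fst (f := j) (P.stMap f)).symm
  have hinj : Function.Injective ((EtDual.unitApp j F).hom.app (op (stageObj P.p k))) := by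
    have : Mono ((sheafToPresheaf X.smallEtaleTopology AddCommGrpCat.{u + 1}).map (EtDual.unitApp j F)) :=
      inferInstance
    exact (AddCommGrpCat.mono_iff_injective _).1
      (inferInstanceAs (Mono (((sheafToPresheaf _ _).map (EtDual.unitApp j F)).app (op (stageObj P.p k)))))
  have h0 : F.obj.map (stageObjMap P.p P.w f).op t = 0 := by
    refine hinj (Eq.trans ?_ (map_zero _).symm)
    refine (EtSupp.EtaleBC.unitApp_eq_zero_iff j F _ _).2 fun W g hW => ?_
    let lU : W.left ⟶ U := IsOpenImmersion.lift j W.hom hW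
    let m : W ⟶ stageObj (pU σ j a P) k := MorphismProperty.Over.homMk
      (pullback.lift g.left lU ((MorphismProperty.Over.w g).trans (IsOpenImmersion.lift_fac j W.hom hW).symm))
      (by
        show _ ≫ 𝟙 _ ≫ P.bcp j k ≫ j = _
        rw [Category.id_comp, ← Category.assoc]
        exact (congrArg (· ≫ j) (pullback.lift_snd _ _ _)).trans (IsOpenImmersion.lift_fac _ _ _))
      trivial
    have hm : m ≫ toStage σ j a P k = g := MorphismProperty.Over.Hom.ext (pullback.lift_fst _ _ _)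
    rw [← hm, op_comp, Functor.map_comp, ConcreteCategory.comp_apply, hk', map_zero]
  rw [← ht']
  refine Ψ_injective σ a F _ _ ?_
  rw [Ψ_top σ a P F i t, map_zero, ← toLim_map (c := Cone.mk A P.π) P.p P.w (a ≫ σ) P.fac F f t, h0, map_zero]

include hpre P in
theorem surjective_restr (J : EtCoh.Ab X) [Injective J] :
    Function.Surjective (((EtCoh.pull σ).obj J).obj.map (restr a jh).op) := by
  intro y
  obtain ⟨i, zs, hzs⟩ := toLim_surjective (c := cU σ j a jh hpre P) (isLimit_cU σ j a jh hpre P)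
    (pU σ j a P) (pU_w σ j a P) ((jh ≫ a) ≫ σ) (cU_fac σ j a jh hpre P) J (Ψ σ (jh ≫ a) J y)
  haveI : IsOpenImmersion (toStage σ j a P i).left :=
    inferInstanceAs (IsOpenImmersion (bcFst j (P.st i)))
  obtain ⟨t, rfl⟩ := OpenRestrict.surjective_of_isFlasque J (Flasque.isFlasque_of_injective J)
    (toStage σ j a P i) zs
  refine ⟨(unit σ J).app (obj a) (stageObj P.p i) (P.π.app i) (w_top σ a P i) t, ?_⟩
  rw [restr_res σ j a jh hpre P J i t]
  exact Ψ_injective σ (jh ≫ a) J _ _ ((Ψ_stage σ j a jh hpre P J i _).trans hzs)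

include P in
omit [QuasiCompact j] in
theorem subsingleton_ext_top (J : EtCoh.Ab X) [Injective J] (q : ℕ) :
    Subsingleton (Ext (Flasque.freeOn (obj a)) ((EtCoh.pull σ).obj J) (q + 1)) :=
  subsingleton_ext σ a J _
    (subsingleton_H_of_injective (c := Cone.mk A P.π) P.isLimit P.p P.w (a ≫ σ) P.fac J q)

include hpre P in
theorem subsingleton_ext_stage (J : EtCoh.Ab X) [Injective J] (q : ℕ) :
    Subsingleton (Ext (Flasque.freeOn (obj (jh ≫ a))) ((EtCoh.pull σ).obj J) (q + 1)) :=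
  subsingleton_ext σ (jh ≫ a) J _
    (subsingleton_H_of_injective (c := cU σ j a jh hpre P) (isLimit_cU σ j a jh hpre P) (pU σ j a P)
      (pU_w σ j a P) ((jh ≫ a) ≫ σ) (cU_fac σ j a jh hpre P) J q)

end Affine

section Supp

variable {T UT : Scheme.{u}} (jT : UT ⟶ T) [IsOpenImmersion jT]

/-- Acyclic on all affines and their traces on `UT`, with surjective restriction. -/
def Good (G : EtCoh.Ab T) : Prop :=
  ∀ (A : Scheme.{u}) [IsAffine A] (a : A ⟶ T) [Etale a],
    (∀ q, Subsingleton (Ext (Flasque.freeOn (obj a)) G (q + 1))) ∧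
    (∀ q, Subsingleton (Ext (Flasque.freeOn (obj ((a ⁻¹ᵁ jT.opensRange).ι ≫ a))) G (q + 1))) ∧
    Function.Surjective (G.obj.map (restr a (a ⁻¹ᵁ jT.opensRange).ι).op)

theorem good_injective (I : EtCoh.Ab T) [Injective I] : Good jT I := fun A _ a _ =>
  ⟨fun _ => ⟨fun x y => (Ext.eq_zero_of_injective x).trans (Ext.eq_zero_of_injective y).symm⟩,
    fun _ => ⟨fun x y => (Ext.eq_zero_of_injective x).trans (Ext.eq_zero_of_injective y).symm⟩,
    haveI : IsOpenImmersion (restr a (a ⁻¹ᵁ jT.opensRange).ι).left :=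
      inferInstanceAs (IsOpenImmersion (a ⁻¹ᵁ jT.opensRange).ι)
    OpenRestrict.surjective_of_isFlasque I (Flasque.isFlasque_of_injective I) _⟩

theorem exists_section_preimage {S : ShortComplex (EtCoh.Ab T)} (hS : S.ShortExact) (W : T.Etale)
    (h₁ : Subsingleton (Ext (Flasque.freeOn W) S.X₁ 1)) :
    Function.Surjective (S.g.hom.app (op W)) := by
  intro s
  obtain ⟨φ, rfl⟩ := (Flasque.freeSec_bijective W S.X₃).2 s
  obtain ⟨y, hy⟩ := Ext.covariant_sequence_exact₃ (Flasque.freeOn W) hS (Ext.mk₀ φ)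
    (rfl : 0 + 1 = 1) (Subsingleton.elim _ _)
  obtain ⟨ψ, rfl⟩ := (Ext.mk₀_bijective _ _).2 y
  rw [Ext.mk₀_comp_mk₀] at hy
  exact ⟨Flasque.freeSec W S.X₂ ψ,
    by rw [← Flasque.freeSec_comp, (Ext.mk₀_bijective _ _).1 hy]⟩

theorem exists_eq_f {S : ShortComplex (EtCoh.Ab T)} (hS : S.ShortExact) (W : T.Etale)
    (y : S.X₂.obj.obj (op W)) (hy : S.g.hom.app (op W) y = 0) :
    ∃ b, S.f.hom.app (op W) b = y := by
  have h' := (hS.exact.map_of_mono_of_preservesKernel
    (sheafToPresheaf T.smallEtaleTopology AddCommGrpCat.{u + 1}) hS.mono_f inferInstance).map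
      ((evaluation T.Etaleᵒᵖ AddCommGrpCat.{u + 1}).obj (op W))
  rw [ShortComplex.ab_exact_iff] at h'
  exact h' y hy

theorem good_coker {S : ShortComplex (EtCoh.Ab T)} (hS : S.ShortExact) (h₁ : Good jT S.X₁)
    (h₂ : Good jT S.X₂) : Good jT S.X₃ := fun A _ a _ => by
  refine ⟨fun q => subsingleton_of_forall_eq 0 fun x => ?_,
    fun q => subsingleton_of_forall_eq 0 fun x => ?_, fun y => ?_⟩
  · obtain ⟨y, rfl⟩ := Ext.covariant_sequence_exact₃ _ hS x (rfl : q + 1 + 1 = q + 1 + 1)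
      (@Subsingleton.elim _ ((h₁ A a).1 (q + 1)) _ _)
    rw [@Subsingleton.elim _ ((h₂ A a).1 q) y 0, Ext.zero_comp]
  · obtain ⟨y, rfl⟩ := Ext.covariant_sequence_exact₃ _ hS x (rfl : q + 1 + 1 = q + 1 + 1)
      (@Subsingleton.elim _ ((h₁ A a).2.1 (q + 1)) _ _)
    rw [@Subsingleton.elim _ ((h₂ A a).2.1 q) y 0, Ext.zero_comp]
  · obtain ⟨y₂, rfl⟩ := exists_section_preimage hS _ ((h₁ A a).2.1 0) y
    obtain ⟨x₂, rfl⟩ := (h₂ A a).2.2 y₂
    exact ⟨_, (NatTrans.naturality_apply S.g.hom (restr a (a ⁻¹ᵁ jT.opensRange).ι).op x₂).symm⟩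

/-- Every object is covered by affine ones. -/
theorem exists_affine_nhd (W : T.Etale) (u : W.left) :
    ∃ (A : Scheme.{u}) (_ : IsAffine A) (a : A ⟶ T) (_ : Etale a) (g : obj a ⟶ W) (v : A), g.left v = u := by
  obtain ⟨_, ⟨O, hO, rfl⟩, huO, -⟩ :=
    W.left.isBasis_affineOpens.exists_subset_of_mem_open (Set.mem_univ u) isOpen_univ
  let WS : Scheme.{u} := W.left
  let O' : WS.Opens := O
  haveI : IsAffine O'.toScheme := hO
  haveI : Etale W.hom := W.prop
  refine ⟨O'.toScheme, hO, O'.ι ≫ W.hom, inferInstance, MorphismProperty.Over.homMk O'.ι ?_ trivial, ⟨u, huO⟩, rfl⟩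
  show O'.ι ≫ W.hom = 𝟙 _ ≫ O'.ι ≫ W.hom
  rw [Category.id_comp]

variable [EtCoh.BCCont jT]

theorem epi_secSupp_map {S : ShortComplex (EtCoh.Ab T)} (hS : S.ShortExact) (h₁ : Good jT S.X₁) :
    Epi ((EtDual.secSupp jT).map S.g) := by
  have : Sheaf.IsLocallySurjective ((EtDual.secSupp jT).map S.g) := by
    constructor
    intro W x
    refine mem_topology_of_forall_exists _ fun u => ?_
    obtain ⟨A, _, a, _, g, v, hv⟩ := exists_affine_nhd W u
    refine ⟨obj a, g, v, ?_, hv⟩
    let O := (a ⁻¹ᵁ jT.opensRange).ι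
    let xA := ((EtDual.secSupp jT).obj S.X₃).obj.map g.op x
    let x' := (kernel.ι (EtDual.unitApp jT S.X₃)).hom.app (op (obj a)) xA
    have hrange : Set.range (obj (O ≫ a)).hom.base ⊆ Set.range jT.base := by
      rintro _ ⟨p, rfl⟩
      exact p.2
    have hx' : S.X₃.obj.map (restr a O).op x' = 0 := by
      refine (NatTrans.naturality_apply (kernel.ι (EtDual.unitApp jT S.X₃)).hom (restr a O).op xA).symm.trans ?_
      exact (congrArg _ (offU_secSupp jT S.X₃ _ hrange _)).trans (map_zero _)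
    obtain ⟨w, hw⟩ := exists_section_preimage hS (obj a) ((h₁ A a).1 0) x'
    obtain ⟨b', hb'⟩ := exists_eq_f hS (obj (O ≫ a)) (S.X₂.obj.map (restr a O).op w)
      ((NatTrans.naturality_apply S.g.hom (restr a O).op w).trans ((congrArg _ hw).trans hx'))
    obtain ⟨b, rfl⟩ := (h₁ A a).2.2 b'
    have hzero : S.g.hom.app (op (obj a)) (S.f.hom.app (op (obj a)) b) = 0 :=
      ConcreteCategory.congr_hom
        (congrArg (fun (k : S.X₁ ⟶ S.X₃) => k.hom.app (op (obj a))) S.zero) b
    let w' := w - S.f.hom.app (op (obj a)) b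
    have hw' : S.X₂.obj.map (restr a O).op w' = 0 := by
      rw [map_sub, sub_eq_zero, ← hb']
      exact NatTrans.naturality_apply S.f.hom (restr a O).op b
    obtain ⟨t, ht⟩ := exists_supp jT S.X₂ (obj a) w' fun V f hV => by
      let f' : V.left ⟶ A := f.left
      have hf : f' ≫ a = V.hom :=
        (congrArg (f' ≫ ·) (Category.id_comp a)).symm.trans (MorphismProperty.Over.w f)
      let l : V.left ⟶ (a ⁻¹ᵁ jT.opensRange).toScheme := IsOpenImmersion.lift O f' (by
        rintro _ ⟨p, rfl⟩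
        refine ⟨⟨f' p, ?_⟩, rfl⟩
        show a (f' p) ∈ Set.range jT.base
        rw [← Scheme.Hom.comp_apply, hf]
        exact hV ⟨p, rfl⟩)
      let m : V ⟶ obj (O ≫ a) := MorphismProperty.Over.homMk l (by
        show l ≫ 𝟙 _ ≫ O ≫ a = _
        rw [Category.id_comp, ← Category.assoc, IsOpenImmersion.lift_fac, hf]) trivial
      have hm : m ≫ restr a O = f := MorphismProperty.Over.Hom.ext (IsOpenImmersion.lift_fac O f' _)
      rw [← hm, op_comp, Functor.map_comp, ConcreteCategory.comp_apply, hw', map_zero]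
    refine ⟨t, injective_ι_app jT S.X₃ (obj a) ?_⟩
    refine (ConcreteCategory.congr_hom (congrArg (fun (k : _ ⟶ S.X₃) => k.hom.app (op (obj a)))
      ((EtSupp.suppι jT).naturality S.g)) t).trans ?_
    show S.g.hom.app (op (obj a)) _ = x'
    refine (congrArg _ ht).trans ?_
    rw [map_sub, hzero, sub_zero, hw]
  infer_instance

theorem isZero_locCoh_of_good (G : EtCoh.Ab T) (hG : Good jT G) (q : ℕ) :
    IsZero ((EtDual.locCoh jT (q + 1)).obj G) := by
  haveI := EtDepthLib.preservesFiniteLimits_secSupp jT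
  refine Flasque.isZero_rightDerived_of_class (EtDual.secSupp jT) (Good jT) (fun H hH => ?_) q G hG
  let S : ShortComplex (EtCoh.Ab T) :=
    ShortComplex.mk (Injective.ι H) (cokernel.π _) (cokernel.condition _)
  have : Epi S.g := coequalizer.π_epi
  have hS : S.ShortExact := { exact := ShortComplex.exact_cokernel _ }
  have : Injective S.X₂ := inferInstanceAs (Injective (Injective.under H))
  exact ⟨S, hS, rfl, this, good_coker jT hS hH (good_injective jT _), epi_secSupp_map jT hS hH⟩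

end Supp

section Transfer

variable {X U T UT : Scheme.{u}} (σ : T ⟶ X) (j : U ⟶ X) [IsOpenImmersion j] [QuasiCompact j]
  [EtCoh.BCCont j] (jT : UT ⟶ T) [IsOpenImmersion jT] [EtCoh.BCCont jT]
  (hpre : Set.range jT.base = σ.base ⁻¹' Set.range j.base)
  (hσ : ∀ (A : Scheme.{u}) [IsAffine A] (a : A ⟶ T) [Etale a], Nonempty (EtPres (a ≫ σ)))

include hpre in
omit [QuasiCompact j] [EtCoh.BCCont j] [EtCoh.BCCont jT] in
theorem range_trace {A : Scheme.{u}} (a : A ⟶ T) :
    Set.range (a ⁻¹ᵁ jT.opensRange).ι.base = (a ≫ σ).base ⁻¹' Set.range j.base := by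
  ext p
  constructor
  · rintro ⟨q, rfl⟩
    show σ.base (a.base _) ∈ Set.range j.base
    have : a.base q.1 ∈ Set.range jT.base := q.2
    rw [hpre] at this
    exact this
  · intro h
    refine ⟨⟨p, ?_⟩, rfl⟩
    show a.base p ∈ Set.range jT.base
    rw [hpre]
    exact h

include hpre hσ in
theorem mono_unit_pull (F : EtCoh.Ab X) (hF : Mono (EtDual.unitApp j F)) :
    Mono (EtDual.unitApp jT ((EtCoh.pull σ).obj F)) := by
  let G := (EtCoh.pull σ).obj F
  have : Mono ((sheafToPresheaf T.smallEtaleTopology AddCommGrpCat.{u + 1}).map (EtDual.unitApp jT G)) := by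
    have : ∀ W, Mono ((EtDual.unitApp jT G).hom.app W) := by
      rintro ⟨W⟩
      rw [AddCommGrpCat.mono_iff_injective, injective_iff_map_eq_zero]
      intro s hs
      choose A hA a ha g v hv using exists_affine_nhd W
      refine EtColim.Sections.ext_of_cover G (fun u : W.left => g u) (fun x => ⟨x, v x, hv x⟩) s 0 fun u => ?_
      haveI := hA u
      haveI := ha u
      rw [map_zero]
      obtain ⟨P⟩ := hσ (A u) (a u)
      refine eq_zero_of_restr σ j (a u) _ (range_trace σ j jT hpre (a u)) P F hF _ ?_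
      rw [← ConcreteCategory.comp_apply, ← Functor.map_comp, ← op_comp]
      exact (EtSupp.EtaleBC.unitApp_eq_zero_iff jT G W s).1 hs _ _ (by
        rintro _ ⟨p, rfl⟩
        exact p.2)
    exact NatTrans.mono_of_mono_app (EtDual.unitApp jT G).hom
  exact (sheafToPresheaf _ _).mono_of_mono_map this

include hpre hσ in
theorem good_pull (J : EtCoh.Ab X) [Injective J] : Good jT ((EtCoh.pull σ).obj J) := fun A _ a _ => by
  obtain ⟨P⟩ := hσ A a
  exact ⟨fun q => subsingleton_ext_top σ a P J q,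
    fun q => subsingleton_ext_stage σ j a _ (range_trace σ j jT hpre a) P J q,
    surjective_restr σ j a _ (range_trace σ j jT hpre a) P J⟩

include hpre hσ in
/-- Depth along a retrocompact open passes to a limit of étale schemes. -/
theorem depthGE_pull : ∀ (n : ℕ) (F : EtCoh.Ab X), EtDepth.DepthGE j F n →
    EtDepth.DepthGE jT ((EtCoh.pull σ).obj F) n
  | 0, F, _ => fun p hp => absurd hp (by omega)
  | n + 1, F, h => fun p hp => by
    have hm := (EtDepthLib.isZero_locCoh_zero_iff j F).1 (h 0 (by omega))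
    rcases p with _ | p
    · exact (EtDepthLib.isZero_locCoh_zero_iff jT _).2 (mono_unit_pull σ j jT hpre hσ F hm)
    · obtain ⟨S, hS, rfl, hI, hiso⟩ := EtDepthLib.exists_embedding j F
      have hG : EtDepth.DepthGE jT ((EtCoh.pull σ).obj S.X₃) n :=
        depthGE_pull n _ ((EtDepthLib.depthGE_succ_iff j hS hm n).1 h)
      haveI := EtDepthLib.preservesFiniteLimits_secSupp jT
      let Δ := RDerLES.derivedLES (EtDual.secSupp jT)
      exact (Δ.exact₁ (S.map (EtCoh.pull σ)) (hS.map_of_exact (EtCoh.pull σ)) p (p + 1) rfl).isZero_of_both_isZero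
        (hG p (by omega)) (isZero_locCoh_of_good jT _ (good_pull σ j jT hpre hσ S.X₂) p)

end Transfer

end Groth.Agent.EtDepthLoc
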